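import Groth.Agent.MonoCILib.Lattice

/-!
# Monomorphisms from diagonalisable groups of finite type to separated groups are closed immersions
-/

set_option autoImplicit false
set_option linter.style.haveILetI false
set_option backward.isDefEq.respectTransparency false
set_option synthInstance.maxHeartbeats 400000
set_option maxHeartbeats 800000

noncomputable section

universe u

open CategoryTheory CategoryTheory.Limits MonoidalCategory CartesianMonoidalCategory AlgebraicGeometry
open scoped MonObj

attribute [-instance] CategoryTheory.Hom.commGroup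

namespace Groth.Agent.MonoCI

theorem exists_split (M : Type) [AddCommGroup M] [AddGroup.FG M] :
    ∃ (r : ℕ) (π : M →+ (Fin r → ℤ)) (s : (Fin r → ℤ) →+ M) (N : ℕ), Function.Surjective π ∧ N ≠ 0 ∧
      ∀ m, N • m = N • s (π m) := by
  classical
  obtain ⟨n, ιT, _, p, hp, e, ⟨f⟩⟩ := AddCommGroup.equiv_free_prod_directSum_zmod M
  let q : (Fin n →₀ ℤ) ≃+ (Fin n → ℤ) := Finsupp.linearEquivFunOnFinite ℤ ℤ (Fin n) |>.toAddEquiv
  refine ⟨n, q.toAddMonoidHom.comp ((AddMonoidHom.fst _ _).comp f.toAddMonoidHom),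
    f.symm.toAddMonoidHom.comp ((AddMonoidHom.inl _ _).comp q.symm.toAddMonoidHom), ∏ i, p i ^ e i,
    fun x => ⟨f.symm (q.symm x, 0), by simp⟩,
    Finset.prod_ne_zero_iff.2 fun i _ => pow_ne_zero _ (hp i).ne_zero, fun m => ?_⟩
  apply f.injective
  rw [map_nsmul, map_nsmul]
  simp only [AddMonoidHom.coe_comp, Function.comp_apply, AddEquiv.coe_toAddMonoidHom, AddMonoidHom.inl_apply,
    AddMonoidHom.coe_fst, AddEquiv.symm_apply_apply, AddEquiv.apply_symm_apply]
  refine Prod.ext rfl ?_
  simp only [Prod.smul_snd, smul_zero]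
  refine DFinsupp.ext fun i => ?_
  rw [DFinsupp.smul_apply, nsmul_eq_mul, DFinsupp.zero_apply]
  have : ((∏ j, p j ^ e j : ℕ) : ZMod (p i ^ e i)) = 0 :=
    (ZMod.natCast_eq_zero_iff _ _).2 ⟨_, (Finset.mul_prod_erase _ _ (Finset.mem_univ i)).symm⟩
  rw [this, zero_mul]

variable {S : Scheme.{u}} {M : Type} [AddCommGroup M] [AddGroup.FG M] {G : Over S} [GrpObj G] [IsSeparated G.hom]
  [QuasiCompact G.hom] [LocallyOfFiniteType G.hom] (u : Red.DS S M ⟶ G) [IsMonHom u] [Mono u]

theorem val_eq_one {O K : Type u} [CommRing O] [IsDomain O] [ValuationRing O] [Field K] [Algebra O K]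
    [IsFractionRing O K] (b : Spec (CommRingCat.of O) ⟶ S) (χ : Multiplicative M →* Kˣ)
    (g : pA b (RingHom.id O) ⟶ G)
    (hg : rs b (algebraMap O K) (RingHom.comp_id _) ≫ g = pD b (algebraMap O K) ((Units.coeHom K).comp χ) ≫ u)
    (m : Multiplicative M) : ValuationRing.valuation O K (χ m : K) = 1 := by
  obtain ⟨r, π, s, N, hπ, hN, hsplit⟩ := exists_split M
  let ψ : Multiplicative M →* Lat r := AddMonoidHom.toMultiplicative π
  let σ : Lat r →* Multiplicative M := AddMonoidHom.toMultiplicative s
  haveI : Mono (MultSubLib.dd S ψ) := mono_dd (fun x => ⟨Multiplicative.ofAdd (hπ x.toAdd).choose,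
    congrArg Multiplicative.ofAdd (hπ x.toAdd).choose_spec⟩)
  haveI : Mono (MultSubLib.dd S ψ ≫ u) := inferInstance
  let χ' : Lat r →* Kˣ := (χ.comp σ) ^ N
  have hχ : χ'.comp ψ = χ ^ N := by
    refine MonoidHom.ext fun x => ?_
    show χ (σ (ψ x)) ^ N = χ x ^ N
    rw [← map_pow, ← map_pow, ← map_pow χ x]
    exact congrArg χ (congrArg Multiplicative.ofAdd ((map_nsmul s N (π x.toAdd)).trans (hsplit x.toAdd).symm))
  have hg' : rs b (algebraMap O K) (RingHom.comp_id _) ≫ g ^ N =
      pD b (algebraMap O K) ((Units.coeHom K).comp χ') ≫ MultSubLib.dd S ψ ≫ u := by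
    rw [MonObj.comp_pow, hg, ← MonObj.pow_comp, ← pD_pow, ← Category.assoc, pD_dd, MonoidHom.comp_assoc, hχ]
    congr 2
  have h := deg_eq_one b (MultSubLib.dd S ψ ≫ u) χ' (g ^ N) hg' (ψ m)
  rw [deg, show χ' (ψ m) = χ m ^ N from DFunLike.congr_fun hχ m, Units.val_pow_eq_pow_val, map_pow] at h
  exact (pow_eq_one_iff_of_nonneg zero_le hN).1 h

/-- A monomorphism of groups from a diagonalisable group of finite type to a separated group of finite type is a
closed immersion. -/
theorem isClosedImmersion_of_mono_DS : IsClosedImmersion u.left := by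
  haveI := MultEq.isAffineHom_DS S M
  haveI : LocallyOfFinitePresentation (Red.DS S M).hom := MultEq.lfp_DS S M
  haveI : IsSeparated (Red.DS S M).hom := inferInstance
  haveI : LocallyOfFiniteType (u.left ≫ G.hom) := by rw [Over.w u]; infer_instance
  haveI : LocallyOfFiniteType u.left := locallyOfFiniteType_of_comp u.left G.hom
  haveI : QuasiCompact (u.left ≫ G.hom) := by rw [Over.w u]; infer_instance
  haveI : QuasiCompact u.left := QuasiCompact.of_comp u.left G.hom
  haveI : IsSeparated (u.left ≫ G.hom) := by rw [Over.w u]; infer_instance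
  haveI : IsSeparated u.left := IsSeparated.of_comp u.left G.hom
  haveI : Mono u.left := inferInstanceAs (Mono ((Over.forget S).map u))
  have hex : ValuativeCriterion.Existence u.left := by
    intro sq
    let O := sq.R
    let K := sq.K
    let b : Spec (CommRingCat.of O) ⟶ S := sq.i₂ ≫ G.hom
    let g : pA b (RingHom.id O) ⟶ G := Over.homMk sq.i₂ (by
      show sq.i₂ ≫ G.hom = Spec.map (CommRingCat.ofHom (RingHom.id O)) ≫ sq.i₂ ≫ G.hom
      rw [CommRingCat.ofHom_id, Spec.map_id, Category.id_comp])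
    let h : pA b (algebraMap O K) ⟶ Red.DS S M := Over.homMk sq.i₁ (by
      show sq.i₁ ≫ (Red.DS S M).hom = Spec.map (CommRingCat.ofHom (algebraMap O K)) ≫ sq.i₂ ≫ G.hom
      rw [← Over.w u, ← Category.assoc, sq.commSq.w, Category.assoc])
    obtain ⟨χ₀, hχ₀⟩ := exists_pD b h
    let χ : Multiplicative M →* Kˣ := χ₀.toHomUnits
    have hχ : (Units.coeHom K).comp χ = χ₀ := MonoidHom.ext fun _ => rfl
    have hg : rs b (algebraMap O K) (RingHom.comp_id _) ≫ g =
        pD b (algebraMap O K) ((Units.coeHom K).comp χ) ≫ u := by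
      rw [hχ, hχ₀]
      exact Over.OverMorphism.ext sq.commSq.w.symm
    have hO : ∀ m, ∃ a : O, algebraMap O K a = (χ m : K) := fun m =>
      (ValuationRing.mem_integer_iff O K _).1 (le_of_eq (val_eq_one u b χ g hg m))
    choose a ha using hO
    let ηO : Multiplicative M →* O :=
      { toFun := a
        map_one' := IsFractionRing.injective O K (by rw [ha, map_one, map_one]; rfl)
        map_mul' := fun x y => IsFractionRing.injective O K (by rw [ha, map_mul, map_mul, ha, ha]; rfl) }
    let q : pA b (RingHom.id O) ⟶ Red.DS S M := pD b (RingHom.id O) ηO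
    have hq : rs b (algebraMap O K) (RingHom.comp_id _) ≫ q = h := by
      rw [rs_pD, ← hχ₀]
      exact congrArg (pD b _) (MonoidHom.ext fun m => ha m)
    have hqg : q.left ≫ u.left = sq.i₂ := by
      let sq' : ValuativeCommSq G.hom :=
        { R := O, K := K, i₁ := sq.i₁ ≫ u.left, i₂ := b,
          commSq := ⟨by rw [sq.commSq.w, Category.assoc]⟩ }
      haveI := IsSeparated.valuativeCriterion G.hom sq'
      have h1 : (rs b (algebraMap O K) (RingHom.comp_id _) ≫ q ≫ u).left = sq.i₁ ≫ u.left := by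
        rw [← Category.assoc, hq]; rfl
      let l₁ : sq'.commSq.LiftStruct := ⟨q.left ≫ u.left, h1, by
        rw [Category.assoc, Over.w u, Over.w q]
        show Spec.map (CommRingCat.ofHom (RingHom.id O)) ≫ b = b
        rw [CommRingCat.ofHom_id, Spec.map_id, Category.id_comp]⟩
      let l₂ : sq'.commSq.LiftStruct := ⟨sq.i₂, sq.commSq.w.symm, rfl⟩
      exact congrArg CommSq.LiftStruct.l (Subsingleton.elim l₁ l₂)
    exact ⟨⟨{ l := q.left, fac_left := congrArg CommaMorphism.left hq, fac_right := hqg }⟩⟩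
  haveI : IsProper u.left := IsProper.of_valuativeCriterion u.left
    (ValuativeCriterion.iff.2 ⟨hex, IsSeparated.valuativeCriterion u.left⟩)
  haveI : LocallyQuasiFinite u.left := inferInstance
  haveI : IsFinite u.left := (IsFinite.iff_isProper_and_locallyQuasiFinite _).2 ⟨inferInstance, inferInstance⟩
  exact (IsClosedImmersion.iff_isFinite_and_mono _).2 ⟨inferInstance, inferInstance⟩

end Groth.Agent.MonoCI
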