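import Groth.Agent.MultSubLib.Chars
import Groth.Agent.MultEqLib.Props

/-!
# Points of affine schemes over a fixed local scheme of the base
-/

set_option autoImplicit false
set_option linter.style.haveILetI false
set_option backward.isDefEq.respectTransparency false

noncomputable section

universe u

open CategoryTheory CategoryTheory.Limits MonoidalCategory CartesianMonoidalCategory AlgebraicGeometry
open scoped MonObj

attribute [-instance] CategoryTheory.Hom.commGroup

namespace Groth.Agent.MonoCI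

variable {S : Scheme.{u}} {O : Type u} [CommRing O] (b : Spec (CommRingCat.of O) ⟶ S)

/-- The spectrum of an algebra over the local ring, over the base. -/
abbrev pA {A : Type u} [CommRing A] (φ : O →+* A) : Over S :=
  Over.mk (Spec.map (CommRingCat.ofHom φ) ≫ b)

/-- The map of spectra. -/
def rs {A B : Type u} [CommRing A] [CommRing B] {φ : O →+* A} {φ' : O →+* B} (ψ : A →+* B)
    (e : ψ.comp φ = φ') : pA b φ' ⟶ pA b φ :=
  Over.homMk (Spec.map (CommRingCat.ofHom ψ)) (by
    show _ ≫ Spec.map _ ≫ b = Spec.map _ ≫ b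
    rw [← Category.assoc, ← Spec.map_comp, ← e]
    rfl)

theorem rs_comp {A B C : Type u} [CommRing A] [CommRing B] [CommRing C] {φ : O →+* A} {φ' : O →+* B}
    {φ'' : O →+* C} (ψ : A →+* B) (e : ψ.comp φ = φ') (ψ' : B →+* C) (e' : ψ'.comp φ' = φ'') :
    rs b ψ' e' ≫ rs b ψ e = rs b (ψ'.comp ψ) (by rw [RingHom.comp_assoc, e, e']) := by
  refine Over.OverMorphism.ext ?_
  show Spec.map _ ≫ Spec.map _ = Spec.map _
  rw [← Spec.map_comp]
  rfl

variable {M : Type} [AddCommGroup M]

/-- The point of the diagonalisable group with given characters. -/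
def pD {A : Type u} [CommRing A] (φ : O →+* A) (χ : Multiplicative M →* A) : pA b φ ⟶ Red.DS S M :=
  DSPtsLib.dsPt ((Scheme.ΓSpecIso (CommRingCat.of A)).inv.hom.toMonoidHom.comp χ)

theorem rs_pD {A B : Type u} [CommRing A] [CommRing B] {φ : O →+* A} {φ' : O →+* B} (ψ : A →+* B)
    (e : ψ.comp φ = φ') (χ : Multiplicative M →* A) :
    rs b ψ e ≫ pD b φ χ = pD b φ' (ψ.toMonoidHom.comp χ) := by
  rw [pD, DSPtsLib.dsPt_natural, pD]
  congr 1
  refine MonoidHom.ext fun m => ?_
  exact (DFunLike.congr_fun (congrArg CommRingCat.Hom.hom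
    (Scheme.ΓSpecIso_inv_naturality (CommRingCat.ofHom ψ))) (χ m)).symm

theorem pD_injective {A : Type u} [CommRing A] {φ : O →+* A} {χ χ' : Multiplicative M →* A}
    (h : pD (S := S) b φ χ = pD b φ χ') : χ = χ' := by
  have h1 := (DSPtsLib.dsPt_bijective (M := M) (pA b φ)).1 h
  refine MonoidHom.ext fun m => ?_
  exact (Scheme.ΓSpecIso (CommRingCat.of A)).commRingCatIsoToRingEquiv.symm.injective (DFunLike.congr_fun h1 m)

theorem exists_pD {A : Type u} [CommRing A] {φ : O →+* A} (h : pA b φ ⟶ Red.DS S M) :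
    ∃ χ : Multiplicative M →* A, pD b φ χ = h := by
  obtain ⟨χ, rfl⟩ := (DSPtsLib.dsPt_bijective (M := M) (pA b φ)).2 h
  refine ⟨(Scheme.ΓSpecIso (CommRingCat.of A)).hom.hom.toMonoidHom.comp χ, ?_⟩
  rw [pD]
  congr 1
  refine MonoidHom.ext fun m => ?_
  exact DFunLike.congr_fun (congrArg CommRingCat.Hom.hom (Scheme.ΓSpecIso (CommRingCat.of A)).hom_inv_id) (χ m)

theorem pD_mul {A : Type u} [CommRing A] (φ : O →+* A) (χ χ' : Multiplicative M →* A) :
    pD (S := S) b φ (χ * χ') = pD b φ χ * pD b φ χ' := by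
  rw [pD, pD, pD, MonoidHom.comp_mul, DSPtsLib.dsPt_mul]

theorem pD_one {A : Type u} [CommRing A] (φ : O →+* A) :
    pD (S := S) (M := M) b φ 1 = 1 := by
  rw [pD, MonoidHom.comp_one, DSPtsLib.dsPt_one]

theorem pD_pow {A : Type u} [CommRing A] (φ : O →+* A) (χ : Multiplicative M →* A) (n : ℕ) :
    pD (S := S) b φ (χ ^ n) = pD b φ χ ^ n := by
  induction n with
  | zero => rw [pow_zero, pow_zero, pD_one]
  | succ n ih => rw [pow_succ, pow_succ, pD_mul, ih]

theorem pD_dd {N : Type} [AddCommGroup N] {A : Type u} [CommRing A] (φ : O →+* A) (χ : Multiplicative M →* A)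
    (ψ : Multiplicative N →* Multiplicative M) :
    pD (S := S) b φ χ ≫ MultSubLib.dd S ψ = pD b φ (χ.comp ψ) := by
  refine MultSubLib.chars_injective ?_
  rw [MultSubLib.chars_comp_dd, pD, pD, MultSubLib.chars_dsPt, MultSubLib.chars_dsPt, MonoidHom.comp_assoc]

theorem mono_dd {N : Type} [AddCommGroup N] {ψ : Multiplicative N →* Multiplicative M}
    (hψ : Function.Surjective ψ) : Mono (MultSubLib.dd S ψ) := ⟨fun {Y} a c h => MultSubLib.chars_injective (by
  have h1 := congrArg MultSubLib.chars h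
  rw [MultSubLib.chars_comp_dd, MultSubLib.chars_comp_dd] at h1
  exact (MonoidHom.cancel_right hψ).1 h1)⟩

end Groth.Agent.MonoCI
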