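import Mathlib

/-!
# Translates of a rational function on a split torus over a valuation ring
-/

set_option autoImplicit false
set_option linter.style.haveILetI false

noncomputable section

universe u

open MonoidAlgebra

namespace Groth.Agent.MonoCI

/-- The lattice of characters of a split torus. -/
abbrev Lat (r : ℕ) : Type := Multiplicative (Fin r → ℤ)

variable {O K : Type u} [CommRing O] [IsDomain O] [ValuationRing O] [Field K] [Algebra O K] [IsFractionRing O K]
  {r : ℕ} (h : Lat r →* Kˣ)

local notation "vv" => ValuationRing.valuation O K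
local notation "kk" => IsLocalRing.ResidueField O

/-- The translation by the powers of a point. -/
def trans (n : ℕ) : MonoidAlgebra K (Lat r) →ₐ[K] MonoidAlgebra K (Lat r) :=
  MonoidAlgebra.lift K (MonoidAlgebra K (Lat r)) (Lat r)
    { toFun := fun m => MonoidAlgebra.single m ((h m : K) ^ n)
      map_one' := by simp [MonoidAlgebra.one_def]
      map_mul' := fun a b => by simp [mul_pow] }

theorem trans_single (n : ℕ) (m : Lat r) (c : K) :
    trans h n (MonoidAlgebra.single m c) = MonoidAlgebra.single m (c * (h m : K) ^ n) := by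
  simp [trans]

theorem trans_coeff (n : ℕ) (P : MonoidAlgebra K (Lat r)) (m : Lat r) :
    (trans h n P).coeff m = P.coeff m * (h m : K) ^ n := by
  classical
  induction P using MonoidAlgebra.induction_linear with
  | zero => simp
  | add p q hp hq => simp [map_add, hp, hq, add_mul]
  | single a c => rw [trans_single]; by_cases e : a = m <;> simp [e]

theorem trans_injective (n : ℕ) : Function.Injective (trans h n) := fun P Q e => by
  refine MonoidAlgebra.ext (Finsupp.ext fun m => ?_)
  have h1 := congrArg (fun Z => MonoidAlgebra.coeff Z m) e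
  simp only [trans_coeff] at h1
  exact mul_right_cancel₀ (pow_ne_zero _ (h m).ne_zero) h1

/-- The degree of a character. -/
def deg (m : Lat r) : ValuationRing.ValueGroup O K := vv (h m : K)

theorem deg_mul (a b : Lat r) : deg (O := O) h (a * b) = deg h a * deg h b := by simp [deg]

theorem deg_ne_zero (m : Lat r) : deg (O := O) h m ≠ 0 := (Valuation.ne_zero_iff _).2 (h m).ne_zero

/-- The reduction of the group algebra. -/
def red : MonoidAlgebra O (Lat r) →+* MonoidAlgebra kk (Lat r) :=
  MonoidAlgebra.mapRingHom (Lat r) (IsLocalRing.residue O)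

/-- The inclusion into the group algebra over the fraction field. -/
def incK : MonoidAlgebra O (Lat r) →+* MonoidAlgebra K (Lat r) :=
  MonoidAlgebra.mapRingHom (Lat r) (algebraMap O K)

theorem incK_injective : Function.Injective (incK (O := O) (K := K) (r := r)) := fun P Q e => by
  refine MonoidAlgebra.ext (Finsupp.ext fun m => IsFractionRing.injective O K ?_)
  simpa [incK] using congrArg (fun Z => MonoidAlgebra.coeff Z m) e

theorem smul_eq_single {R : Type u} [CommRing R] (a : R) (Z : MonoidAlgebra R (Lat r)) :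
    a • Z = MonoidAlgebra.single 1 a * Z := MonoidAlgebra.ext (Finsupp.ext fun m => by simp)

theorem incK_smul (c : O) (Z : MonoidAlgebra O (Lat r)) :
    incK (K := K) (c • Z) = algebraMap O K c • incK Z := by
  rw [smul_eq_single, smul_eq_single, map_mul]
  simp [incK]

theorem red_smul (c : O) (Z : MonoidAlgebra O (Lat r)) : red (c • Z) = IsLocalRing.residue O c • red Z := by
  rw [smul_eq_single, smul_eq_single, map_mul]
  simp [red]

/-- A normal form: a constant times an integral element with nonzero reduction. -/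
theorem exists_content {P : MonoidAlgebra K (Lat r)} (hP : P ≠ 0) :
    ∃ (p : K) (P' : MonoidAlgebra O (Lat r)), p ≠ 0 ∧ P = p • incK P' ∧ red P' ≠ 0 ∧
      ∀ m, (red P').coeff m ≠ 0 → vv (P.coeff m) = vv p := by
  classical
  have hs : P.coeff.support.Nonempty := by
    rw [Finsupp.support_nonempty_iff]
    exact fun e => hP (MonoidAlgebra.ext e)
  obtain ⟨m₀, hm₀, hmax⟩ := P.coeff.support.exists_max_image (fun m => vv (P.coeff m)) hs
  have hp : P.coeff m₀ ≠ 0 := Finsupp.mem_support_iff.1 hm₀
  have hint : ∀ m, ∃ a : O, algebraMap O K a = P.coeff m / P.coeff m₀ := fun m => by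
    rw [← ValuationRing.mem_integer_iff, Valuation.mem_integer_iff, map_div₀,
      div_le_one₀ (zero_lt_iff.2 ((Valuation.ne_zero_iff _).2 hp))]
    by_cases hm : m ∈ P.coeff.support
    · exact hmax m hm
    · rw [Finsupp.notMem_support_iff.1 hm, map_zero]; exact zero_le
  choose a ha using hint
  let P' : MonoidAlgebra O (Lat r) := ∑ m ∈ P.coeff.support, MonoidAlgebra.single m (a m)
  have hP' : ∀ m, P'.coeff m = a m := fun m => by
    simp only [P', MonoidAlgebra.coeff_sum, MonoidAlgebra.coeff_single, Finsupp.finsetSum_apply,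
      Finsupp.single_apply, Finset.sum_ite_eq']
    split_ifs with hm
    · rfl
    · apply IsFractionRing.injective O K
      rw [map_zero, ha, Finsupp.notMem_support_iff.1 hm, zero_div]
  refine ⟨P.coeff m₀, P', hp, MonoidAlgebra.ext (Finsupp.ext fun m => ?_), fun e => ?_, fun m hm => ?_⟩
  · simp [incK, hP', ha, mul_div_cancel₀ _ hp]
  · have h1 : IsLocalRing.residue O (a m₀) = 0 := by
      simpa [red, hP'] using congrArg (fun Z => MonoidAlgebra.coeff Z m₀) e
    have h2 : a m₀ = 1 := IsFractionRing.injective O K (by rw [ha, div_self hp, map_one])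
    rw [h2, map_one] at h1
    exact one_ne_zero h1
  · have hu : IsUnit (a m) := by
      by_contra hu
      exact hm (by simpa [red, hP'] using (IsLocalRing.residue_eq_zero_iff _).2 hu)
    have h1 : vv (algebraMap O K (a m)) = 1 := by
      refine le_antisymm ((ValuationRing.mem_integer_iff O K _).2 ⟨_, rfl⟩) ?_
      obtain ⟨b, hb⟩ := hu.exists_right_inv
      have hb' : vv (algebraMap O K (a m)) * vv (algebraMap O K b) = 1 := by rw [← map_mul, ← map_mul, hb]; simp
      calc (1 : ValuationRing.ValueGroup O K) = _ := hb'.symm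
        _ ≤ vv (algebraMap O K (a m)) * 1 := mul_le_mul_of_nonneg_left ((ValuationRing.mem_integer_iff O K _).2 ⟨_, rfl⟩) zero_le
        _ = _ := mul_one _
    rw [ha, map_div₀, div_eq_one_iff_eq ((Valuation.ne_zero_iff _).2 hp)] at h1
    exact h1

/-- Elements homogeneous of a given degree. -/
def Homog (P : MonoidAlgebra kk (Lat r)) (d : ValuationRing.ValueGroup O K) : Prop :=
  ∀ m, P.coeff m ≠ 0 → deg h m = d

theorem homog_mul {P Q : MonoidAlgebra kk (Lat r)} {d e : ValuationRing.ValueGroup O K}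
    (hP : Homog h P d) (hQ : Homog h Q e) : Homog h (P * Q) (d * e) := by
  classical
  intro m hm
  have := MonoidAlgebra.support_coeff_mul_subset P Q (Finsupp.mem_support_iff.2 hm)
  obtain ⟨a, ha, b, hb, rfl⟩ := Finset.mem_mul.1 this
  rw [deg_mul, hP a (Finsupp.mem_support_iff.1 ha), hQ b (Finsupp.mem_support_iff.1 hb)]

theorem homog_add {P Q : MonoidAlgebra kk (Lat r)} {d : ValuationRing.ValueGroup O K}
    (hP : Homog h P d) (hQ : Homog h Q d) : Homog h (P + Q) d := fun m hm => by
  by_cases h1 : P.coeff m = 0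
  · exact hQ m fun h2 => hm (by simp [h1, h2])
  · exact hP m h1

theorem homog_neg {P : MonoidAlgebra kk (Lat r)} {d : ValuationRing.ValueGroup O K} (hP : Homog h P d) :
    Homog h (-P) d := fun m hm => hP m fun h1 => hm (by simp [h1])

theorem homog_one : Homog h (1 : MonoidAlgebra kk (Lat r)) 1 := fun m hm => by
  classical
  rw [MonoidAlgebra.one_def, MonoidAlgebra.coeff_single, Finsupp.single_apply] at hm
  split_ifs at hm with e
  · simp [← e, deg]
  · exact absurd rfl hm

/-- The rational functions of degree zero. -/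
def degZero : Subfield (FractionRing (MonoidAlgebra kk (Lat r))) where
  carrier := {F | ∃ (P Q : MonoidAlgebra kk (Lat r)) (d : ValuationRing.ValueGroup O K),
    Q ≠ 0 ∧ Homog h P d ∧ Homog h Q d ∧ F * algebraMap _ _ Q = algebraMap _ _ P}
  one_mem' := ⟨1, 1, 1, one_ne_zero, homog_one h, homog_one h, by simp⟩
  zero_mem' := ⟨0, 1, 1, one_ne_zero, fun m hm => absurd (by simp) hm, homog_one h, by simp⟩
  mul_mem' := by
    rintro F G ⟨P, Q, d, hQ, hP, hQd, e⟩ ⟨P', Q', d', hQ', hP', hQd', e'⟩
    refine ⟨P * P', Q * Q', d * d', mul_ne_zero hQ hQ', homog_mul h hP hP', homog_mul h hQd hQd', ?_⟩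
    rw [map_mul, map_mul, ← e, ← e']
    ring
  add_mem' := by
    rintro F G ⟨P, Q, d, hQ, hP, hQd, e⟩ ⟨P', Q', d', hQ', hP', hQd', e'⟩
    refine ⟨P * Q' + Q * P', Q * Q', d * d', mul_ne_zero hQ hQ',
      homog_add h (homog_mul h hP hQd') (homog_mul h hQd hP'), homog_mul h hQd hQd', ?_⟩
    rw [map_mul, map_add, map_mul, map_mul, ← e, ← e']
    ring
  neg_mem' := by
    rintro F ⟨P, Q, d, hQ, hP, hQd, e⟩
    exact ⟨-P, Q, d, hQ, homog_neg h hP, hQd, by rw [map_neg, ← e, neg_mul]⟩
  inv_mem' := by
    rintro F ⟨P, Q, d, hQ, hP, hQd, e⟩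
    by_cases hF : F = 0
    · exact ⟨0, 1, 1, one_ne_zero, fun m hm => absurd (by simp) hm, homog_one h, by simp [hF]⟩
    have hQ' : algebraMap (MonoidAlgebra kk (Lat r)) (FractionRing (MonoidAlgebra kk (Lat r))) Q ≠ 0 :=
      (map_ne_zero_iff _ (IsFractionRing.injective _ _)).2 hQ
    refine ⟨Q, P, d, fun e0 => ?_, hQd, hP, ?_⟩
    · rw [e0, map_zero] at e
      exact mul_ne_zero hF hQ' e
    · rw [← e, ← mul_assoc, inv_mul_cancel₀ hF, one_mul]

theorem deg_eq_one_of_mem {m : Lat r}
    (hm : algebraMap _ (FractionRing (MonoidAlgebra kk (Lat r))) (MonoidAlgebra.single m (1 : kk)) ∈ degZero h) :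
    deg (O := O) h m = 1 := by
  classical
  obtain ⟨P, Q, d, hQ, hP, hQd, e⟩ := hm
  rw [← map_mul] at e
  have e' := IsFractionRing.injective _ (FractionRing (MonoidAlgebra kk (Lat r))) e
  obtain ⟨q, hq⟩ : ∃ q, Q.coeff q ≠ 0 := by
    by_contra hall
    push Not at hall
    exact hQ (MonoidAlgebra.ext (Finsupp.ext fun q => by simpa using hall q))
  have h1 : P.coeff (m * q) ≠ 0 := by
    rw [← e', MonoidAlgebra.coeff_single_mul_eq_mul_coeff q fun b _ => mul_right_inj m, one_mul]
    exact hq
  have h2 := hP _ h1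
  rw [deg_mul, hQd q hq] at h2
  exact (mul_eq_right₀ ((hQd q hq) ▸ deg_ne_zero h q)).1 h2

/-- The exceptional exponents of a pair of elements. -/
def bad (P Q : MonoidAlgebra K (Lat r)) : Set ℕ :=
  {n | ∃ a ∈ P.coeff.support, ∃ b ∈ Q.coeff.support, deg (O := O) h a ≠ deg h b ∧
    vv (P.coeff a) * deg h a ^ n = vv (Q.coeff b) * deg h b ^ n}

theorem bad_finite (P Q : MonoidAlgebra K (Lat r)) : (bad (O := O) h P Q).Finite := by
  refine (Set.Finite.biUnion P.coeff.support.finite_toSet fun a ha => Q.coeff.support.finite_toSet.biUnion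
    (t := fun b => {n | deg (O := O) h a ≠ deg h b ∧ vv (P.coeff a) * deg h a ^ n = vv (Q.coeff b) * deg h b ^ n})
    fun b hb => Set.Subsingleton.finite ?_).subset ?_
  · have key : ∀ n n' : ℕ, n ≤ n' →
        vv (P.coeff a) * deg h a ^ n = vv (Q.coeff b) * deg h b ^ n →
        vv (P.coeff a) * deg h a ^ n' = vv (Q.coeff b) * deg h b ^ n' → deg (O := O) h a ≠ deg h b → n = n' := by
      intro n n' hle h1 h2 hne
      obtain ⟨k, rfl⟩ := Nat.le.dest hle
      rw [pow_add, pow_add, ← mul_assoc, ← mul_assoc, ← h1] at h2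
      have h3 := mul_left_cancel₀ (mul_ne_zero ((Valuation.ne_zero_iff _).2 (Finsupp.mem_support_iff.1 ha))
        (pow_ne_zero _ (deg_ne_zero h a))) h2
      by_contra hk
      exact hne ((pow_left_inj₀ zero_le zero_le (by omega)).1 h3)
    rintro n ⟨hne, h1⟩ n' ⟨-, h2⟩
    rcases le_total n n' with hle | hle
    · exact key n n' hle h1 h2 hne
    · exact (key n' n hle h2 h1 hne).symm
  · rintro n ⟨a, ha, b, hb, hne, he⟩
    exact Set.mem_iUnion₂.2 ⟨a, ha, Set.mem_iUnion₂.2 ⟨b, hb, hne, he⟩⟩

/-- Outside the exceptional exponents the reduction of a translate is of degree zero. -/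
theorem mem_degZero_of_trans {P Q : MonoidAlgebra K (Lat r)} (hQ : Q ≠ 0) {n : ℕ}
    (hn : n ∉ bad (O := O) h P Q) (hn' : n ∉ bad (O := O) h Q Q)
    {A B : MonoidAlgebra O (Lat r)} (hB : red B ≠ 0)
    (e : trans h n P * incK B = trans h n Q * incK A)
    {F : FractionRing (MonoidAlgebra kk (Lat r))}
    (hF : F * algebraMap _ _ (red B) = algebraMap _ _ (red A)) : F ∈ degZero h := by
  classical
  let ι := algebraMap (MonoidAlgebra kk (Lat r)) (FractionRing (MonoidAlgebra kk (Lat r)))
  have hιB : ι (red B) ≠ 0 := (map_ne_zero_iff _ (IsFractionRing.injective _ _)).2 hB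
  by_cases hF0 : F = 0
  · exact hF0 ▸ zero_mem _
  have hA : red A ≠ 0 := fun e0 => mul_ne_zero hF0 hιB (hF.trans (by rw [e0, map_zero]))
  have hσQ : trans h n Q ≠ 0 := (map_ne_zero_iff _ (trans_injective h n)).2 hQ
  have hA0 : incK (K := K) A ≠ 0 := (map_ne_zero_iff _ incK_injective).2 fun e0 => hA (by rw [e0, map_zero])
  have hσP : trans h n P ≠ 0 := fun e0 => by
    rw [e0, zero_mul] at e
    exact mul_ne_zero hσQ hA0 e.symm
  obtain ⟨q, Q', hq0, hqQ, hQ', hqdeg⟩ := exists_content (O := O) hσQ
  obtain ⟨p, P', hp0, hpP, hP', hpdeg⟩ := exists_content (O := O) hσP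
  rw [hqQ, hpP, smul_mul_assoc, smul_mul_assoc, ← map_mul, ← map_mul] at e
  obtain ⟨c, rfl⟩ | ⟨c, rfl⟩ : (∃ c : O, algebraMap O K c * q = p) ∨ (∃ c : O, algebraMap O K c * p = q) := by
    rcases le_total (vv p) (vv q) with hle | hle
    · obtain ⟨c, hc⟩ := (ValuationRing.mem_integer_iff O K (p / q)).1 (by
        rw [Valuation.mem_integer_iff, map_div₀, div_le_one₀ (zero_lt_iff.2 ((Valuation.ne_zero_iff _).2 hq0))]
        exact hle)
      exact Or.inl ⟨c, by rw [hc, div_mul_cancel₀ _ hq0]⟩
    · obtain ⟨c, hc⟩ := (ValuationRing.mem_integer_iff O K (q / p)).1 (by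
        rw [Valuation.mem_integer_iff, map_div₀, div_le_one₀ (zero_lt_iff.2 ((Valuation.ne_zero_iff _).2 hp0))]
        exact hle)
      exact Or.inr ⟨c, by rw [hc, div_mul_cancel₀ _ hp0]⟩
  swap
  · -- the denominator is divisible by less
    have e' : P' * B = c • (Q' * A) := incK_injective (K := K) (by
      apply smul_right_injective (MonoidAlgebra K (Lat r)) hp0
      dsimp only
      rw [e, mul_comm, mul_smul, incK_smul])
    have e'' := congrArg red e'
    rw [map_mul, red_smul, map_mul] at e''
    have hc : IsUnit c := by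
      by_contra hc
      rw [(IsLocalRing.residue_eq_zero_iff c).2 hc, zero_smul] at e''
      exact mul_ne_zero hP' hB e''
    have hv : vv (algebraMap O K c) = 1 := by
      obtain ⟨b, hb⟩ := hc.exists_right_inv
      refine le_antisymm ((ValuationRing.mem_integer_iff O K _).2 ⟨_, rfl⟩) ?_
      calc (1 : ValuationRing.ValueGroup O K) = vv (algebraMap O K c) * vv (algebraMap O K b) := by
            rw [← map_mul, ← map_mul, hb]; simp
        _ ≤ vv (algebraMap O K c) * 1 := mul_le_mul_of_nonneg_left ((ValuationRing.mem_integer_iff O K _).2 ⟨_, rfl⟩) zero_le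
        _ = _ := mul_one _
    rw [map_mul, hv, one_mul] at hqdeg
    exact finish h hn hn' hP' hQ' (IsLocalRing.residue O c) hB hp0 hpdeg hqdeg hF (Or.inr e'')
  · have e' : c • (P' * B) = Q' * A := incK_injective (K := K) (by
      apply smul_right_injective (MonoidAlgebra K (Lat r)) hq0
      dsimp only
      rw [← e, mul_comm (algebraMap O K c), mul_smul, incK_smul])
    have e'' := congrArg red e'
    rw [map_mul, red_smul, map_mul] at e''
    by_cases hc : IsUnit c
    swap
    · rw [(IsLocalRing.residue_eq_zero_iff c).2 hc, zero_smul] at e''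
      exact absurd e''.symm (mul_ne_zero hQ' hA)
    have hv : vv (algebraMap O K c) = 1 := by
      obtain ⟨b, hb⟩ := hc.exists_right_inv
      refine le_antisymm ((ValuationRing.mem_integer_iff O K _).2 ⟨_, rfl⟩) ?_
      calc (1 : ValuationRing.ValueGroup O K) = vv (algebraMap O K c) * vv (algebraMap O K b) := by
            rw [← map_mul, ← map_mul, hb]; simp
        _ ≤ vv (algebraMap O K c) * 1 := mul_le_mul_of_nonneg_left ((ValuationRing.mem_integer_iff O K _).2 ⟨_, rfl⟩) zero_le
        _ = _ := mul_one _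
    rw [map_mul, hv, one_mul] at hpdeg
    exact finish h hn hn' hP' hQ' (IsLocalRing.residue O c) hB hq0 hpdeg hqdeg hF (Or.inl e'')
where
  finish {r : ℕ} (h : Lat r →* Kˣ) {P Q : MonoidAlgebra K (Lat r)} {n : ℕ}
      (hn : n ∉ bad (O := O) h P Q) (hn' : n ∉ bad (O := O) h Q Q)
      {P' Q' A B : MonoidAlgebra O (Lat r)} (hP' : red P' ≠ 0) (hQ' : red Q' ≠ 0) (c : kk) (hB : red B ≠ 0) {p : K} (hp : p ≠ 0)
      (hpdeg : ∀ m, (red P').coeff m ≠ 0 → vv ((trans h n P).coeff m) = vv p)
      (hqdeg : ∀ m, (red Q').coeff m ≠ 0 → vv ((trans h n Q).coeff m) = vv p)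
      {F : FractionRing (MonoidAlgebra kk (Lat r))}
      (hF : F * algebraMap _ _ (red B) = algebraMap _ _ (red A))
      (e : c • (red P' * red B) = red Q' * red A ∨ red P' * red B = c • (red Q' * red A)) :
      F ∈ degZero h := by
    obtain ⟨b, hb⟩ : ∃ b, (red Q').coeff b ≠ 0 := by
      by_contra hall
      push Not at hall
      exact hQ' (MonoidAlgebra.ext (Finsupp.ext fun q => by simpa using hall q))
    have hsupp : ∀ {R : MonoidAlgebra K (Lat r)} {R' : MonoidAlgebra O (Lat r)},
        (∀ m, (red R').coeff m ≠ 0 → vv ((trans h n R).coeff m) = vv p) → p ≠ 0 → ∀ m, (red R').coeff m ≠ 0 →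
        m ∈ R.coeff.support ∧ vv (R.coeff m) * deg h m ^ n = vv p := by
      intro R R' hR hp m hm
      have h1 := hR m hm
      rw [trans_coeff, map_mul, map_pow] at h1
      refine ⟨Finsupp.mem_support_iff.2 fun e0 => ?_, h1⟩
      rw [e0, map_zero, zero_mul] at h1
      exact (Valuation.ne_zero_iff _).2 hp h1.symm
    have hQd : Homog h (red Q') (deg h b) := fun m hm => by
      by_contra hne
      obtain ⟨hm1, hm2⟩ := hsupp hqdeg hp m hm
      obtain ⟨hb1, hb2⟩ := hsupp hqdeg hp b hb
      exact hn' ⟨m, hm1, b, hb1, hne, hm2.trans hb2.symm⟩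
    have hPd : Homog h (red P') (deg h b) := fun m hm => by
      by_contra hne
      obtain ⟨hm1, hm2⟩ := hsupp hpdeg hp m hm
      obtain ⟨hb1, hb2⟩ := hsupp hqdeg hp b hb
      exact hn ⟨m, hm1, b, hb1, hne, hm2.trans hb2.symm⟩
    let ι := algebraMap (MonoidAlgebra kk (Lat r)) (FractionRing (MonoidAlgebra kk (Lat r)))
    have hιB : ι (red B) ≠ 0 := (map_ne_zero_iff _ (IsFractionRing.injective _ _)).2 hB
    have hsc : ∀ (a : kk) (Z : MonoidAlgebra kk (Lat r)) (d : ValuationRing.ValueGroup O K), Homog h Z d →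
        Homog h (a • Z) d := fun a Z d hZ m hm => hZ m fun e0 => hm (by simp [e0])
    rcases e with e | e
    · refine ⟨c • red P', red Q', deg h b, hQ', hsc _ _ _ hPd, hQd, ?_⟩
      refine mul_right_cancel₀ hιB ?_
      rw [← map_mul, mul_right_comm, hF, ← map_mul, smul_mul_assoc, e, mul_comm]
    · have hc : c ≠ 0 := fun e0 => by
        rw [e0, zero_smul] at e
        exact mul_ne_zero hP' hB e
      refine ⟨red P', c • red Q', deg h b, smul_ne_zero hc hQ', hPd, hsc _ _ _ hQd, ?_⟩
      refine mul_right_cancel₀ hιB ?_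
      rw [← map_mul, mul_right_comm, hF, ← map_mul, e, mul_smul_comm, mul_comm]

end Groth.Agent.MonoCI
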