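import Groth.Agent.MonoCILib.Alg
import Groth.Agent.MonoCILib.Pts
import Groth.Agent.GrpHomLib.Field
import Groth.Agent.PowEtCentralLib.Split

/-!
# Integrality of points of a split torus embedded in a separated group
-/

set_option autoImplicit false
set_option linter.style.haveILetI false
set_option backward.isDefEq.respectTransparency false
set_option synthInstance.maxHeartbeats 400000
set_option maxHeartbeats 1600000

noncomputable section

universe u

open CategoryTheory CategoryTheory.Limits MonoidalCategory CartesianMonoidalCategory AlgebraicGeometry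
open scoped MonObj

attribute [-instance] CategoryTheory.Hom.commGroup

namespace Groth.Agent.MonoCI

section Alg

variable {O K : Type u} [CommRing O] [IsDomain O] [ValuationRing O] [Field K] [Algebra O K] [IsFractionRing O K]
  {r : ℕ}

/-- The prime of the generic point of the special fibre. -/
def specialPrime (O : Type u) [CommRing O] [IsDomain O] [ValuationRing O] (r : ℕ) :
    Ideal (MonoidAlgebra O (Lat r)) :=
  RingHom.ker (red (O := O) (r := r))

instance isPrime_specialPrime : (specialPrime O r).IsPrime := RingHom.ker_isPrime _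

/-- The local ring of the generic point of the special fibre. -/
abbrev RR (O : Type u) [CommRing O] [IsDomain O] [ValuationRing O] (r : ℕ) : Type u :=
  Localization.AtPrime (specialPrime O r)

/-- The constants. -/
def cR : O →+* RR O r := (algebraMap (MonoidAlgebra O (Lat r)) (RR O r)).comp MonoidAlgebra.singleOneRingHom

/-- The tautological characters. -/
def ξR : Lat r →* RR O r :=
  (algebraMap (MonoidAlgebra O (Lat r)) (RR O r)).toMonoidHom.comp (MonoidAlgebra.of O (Lat r))

theorem isUnit_incK (y : (specialPrime O r).primeCompl) :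
    IsUnit (algebraMap (MonoidAlgebra K (Lat r)) (FractionRing (MonoidAlgebra K (Lat r))) (incK y.1)) := by
  refine IsUnit.mk0 _ ((map_ne_zero_iff _ (IsFractionRing.injective _ _)).2 ((map_ne_zero_iff _ incK_injective).2 ?_))
  intro e
  exact y.2 (by rw [e]; exact Ideal.zero_mem _)

theorem isUnit_red (y : (specialPrime O r).primeCompl) :
    IsUnit (algebraMap (MonoidAlgebra (IsLocalRing.ResidueField O) (Lat r))
      (FractionRing (MonoidAlgebra (IsLocalRing.ResidueField O) (Lat r))) (red y.1)) := by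
  refine IsUnit.mk0 _ ((map_ne_zero_iff _ (IsFractionRing.injective _ _)).2 ?_)
  exact fun e => y.2 e

/-- Into the generic fibre. -/
def ρL : RR O r →+* FractionRing (MonoidAlgebra K (Lat r)) :=
  IsLocalization.lift (g := (algebraMap (MonoidAlgebra K (Lat r)) _).comp (incK (O := O) (K := K)))
    (M := (specialPrime O r).primeCompl) fun y => isUnit_incK y

/-- Onto the residue field. -/
def ρl : RR O r →+* FractionRing (MonoidAlgebra (IsLocalRing.ResidueField O) (Lat r)) :=
  IsLocalization.lift (g := (algebraMap (MonoidAlgebra (IsLocalRing.ResidueField O) (Lat r)) _).comp (red (O := O)))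
    (M := (specialPrime O r).primeCompl) fun y => isUnit_red y

theorem mem_degZero_of_eq (h : Lat r →* Kˣ) {P Q : MonoidAlgebra K (Lat r)} (hQ : Q ≠ 0) {n : ℕ}
    (hn : n ∉ bad (O := O) h P Q) (hn' : n ∉ bad (O := O) h Q Q) (z : RR O r)
    (e : ρL (K := K) z * algebraMap _ _ (trans h n Q) = algebraMap _ _ (trans h n P)) :
    ρl z ∈ degZero (O := O) h := by
  obtain ⟨A, ⟨B, hB⟩, rfl⟩ := IsLocalization.exists_mk'_eq (specialPrime O r).primeCompl z
  have hspec := IsLocalization.mk'_spec (M := (specialPrime O r).primeCompl) (RR O r) A ⟨B, hB⟩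
  refine mem_degZero_of_trans h hQ hn hn' (A := A) (B := B) (fun e0 => hB e0) ?_ ?_
  · apply IsFractionRing.injective (MonoidAlgebra K (Lat r)) (FractionRing (MonoidAlgebra K (Lat r)))
    have h1 := congrArg (ρL (K := K)) hspec
    rw [map_mul, ρL, IsLocalization.lift_eq, IsLocalization.lift_eq] at h1
    simp only [RingHom.comp_apply] at h1
    rw [map_mul, map_mul, ← h1, ← e]
    simp only [ρL]
    ring
  · have h1 := congrArg ρl hspec
    rw [map_mul, ρl, IsLocalization.lift_eq, IsLocalization.lift_eq] at h1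
    simp only [RingHom.comp_apply] at h1
    exact h1

/-- The field of rational functions of the generic fibre. -/
abbrev LL (K : Type u) [Field K] (r : ℕ) : Type u := FractionRing (MonoidAlgebra K (Lat r))

/-- The constants of the field of rational functions. -/
def cKL : K →+* LL K r := (algebraMap (MonoidAlgebra K (Lat r)) (LL K r)).comp MonoidAlgebra.singleOneRingHom

theorem cKL_comp : (cKL (K := K) (r := r)).comp (algebraMap O K) = (ρL (K := K)).comp cR := by
  refine RingHom.ext fun o => ?_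
  simp only [cKL, cR, ρL, RingHom.comp_apply, IsLocalization.lift_eq]
  congr 1
  simp [incK, MonoidAlgebra.singleOneRingHom]

theorem ρL_ξR (a : Lat r) :
    ρL (K := K) (ξR (O := O) a) = algebraMap _ (LL K r) (MonoidAlgebra.single a (1 : K)) := by
  simp only [ξR, MonoidHom.comp_apply, RingHom.toMonoidHom_eq_coe, MonoidHom.coe_coe, ρL, IsLocalization.lift_eq,
    RingHom.comp_apply]
  congr 1
  simp [incK]

theorem trans_alg_injective (h : Lat r →* Kˣ) (n : ℕ) :
    Function.Injective ((algebraMap (MonoidAlgebra K (Lat r)) (LL K r)).comp (trans h n).toRingHom) :=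
  (IsFractionRing.injective _ (LL K r)).comp (trans_injective h n)

/-- The translation on rational functions. -/
def σL (h : Lat r →* Kˣ) (n : ℕ) : LL K r →+* LL K r := IsFractionRing.lift (trans_alg_injective h n)

theorem σL_algebraMap (h : Lat r →* Kˣ) (n : ℕ) (Z : MonoidAlgebra K (Lat r)) :
    σL h n (algebraMap _ (LL K r) Z) = algebraMap _ (LL K r) (trans h n Z) := by
  simp [σL, IsFractionRing.lift_algebraMap]

theorem σL_comp (h : Lat r →* Kˣ) (n : ℕ) : (σL h n).comp ((ρL (K := K)).comp (cR (O := O))) = (ρL (K := K)).comp cR := by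
  rw [← cKL_comp]
  refine RingHom.ext fun o => ?_
  simp only [cKL, RingHom.comp_apply, σL_algebraMap]
  congr 1
  simp [MonoidAlgebra.singleOneRingHom, trans_single]

/-- The translated tautological characters. -/
theorem σL_ξ (h : Lat r →* Kˣ) (n : ℕ) :
    (σL h n).toMonoidHom.comp ((ρL (K := K)).toMonoidHom.comp (ξR (O := O))) =
      (cKL.toMonoidHom.comp ((Units.coeHom K).comp h)) ^ n * (ρL (K := K)).toMonoidHom.comp (ξR (O := O)) := by
  refine MonoidHom.ext fun a => ?_
  show σL h n (ρL (ξR a)) = cKL (h a : K) ^ n * ρL (ξR a)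
  rw [ρL_ξR, σL_algebraMap, trans_single, cKL, RingHom.comp_apply, ← map_pow, ← map_pow, ← map_mul]
  congr 1
  simp [MonoidAlgebra.singleOneRingHom, MonoidAlgebra.single_mul_single]

theorem ρl_cR (o : O) : ρl (cR (r := r) o) = algebraMap _ (FractionRing (MonoidAlgebra (IsLocalRing.ResidueField O) (Lat r)))
    (MonoidAlgebra.single (1 : Lat r) (IsLocalRing.residue O o)) := by
  simp only [cR, ρl, RingHom.comp_apply, IsLocalization.lift_eq]
  congr 1
  simp [red, MonoidAlgebra.singleOneRingHom]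

theorem ρl_ξR (a : Lat r) : ρl (ξR (O := O) a) = algebraMap _ (FractionRing (MonoidAlgebra (IsLocalRing.ResidueField O) (Lat r)))
    (MonoidAlgebra.single a (1 : IsLocalRing.ResidueField O)) := by
  simp only [ξR, MonoidHom.comp_apply, RingHom.toMonoidHom_eq_coe, MonoidHom.coe_coe, ρl, IsLocalization.lift_eq,
    RingHom.comp_apply]
  congr 1
  simp [red]

theorem ρl_cR_mem (h : Lat r →* Kˣ) (o : O) : ρl (cR (r := r) o) ∈ degZero (O := O) h := by
  refine ⟨MonoidAlgebra.single (1 : Lat r) (IsLocalRing.residue O o), 1, 1, one_ne_zero, ?_, homog_one h, ?_⟩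
  · intro x hx
    by_cases e : (1 : Lat r) = x
    · simp [← e, deg]
    · exact absurd (by simp [e]) hx
  · rw [map_one, mul_one, ρl_cR]

end Alg

theorem factor_closed_field {S : Scheme.{u}} {k : Type u} [Field k] (κ : Spec (CommRingCat.of k) ⟶ S)
    {D G : Over S} [GrpObj D] [GrpObj G] [LocallyOfFiniteType D.hom] [LocallyOfFiniteType G.hom]
    (u : D ⟶ G) [IsMonHom u] [Mono u] [QuasiCompact u.left]
    {A E : Type u} [Field A] [CommRing E] [Nontrivial E] (ψ : A →+* E)
    (a : Spec (CommRingCat.of A) ⟶ Spec (CommRingCat.of k))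
    (z : Spec (CommRingCat.of A) ⟶ G.left) (hz : z ≫ G.hom = a ≫ κ)
    (x : Spec (CommRingCat.of E) ⟶ D.left) (hx : x ≫ u.left = Spec.map (CommRingCat.ofHom ψ) ≫ z) :
    ∃ q : Spec (CommRingCat.of A) ⟶ D.left, q ≫ u.left = z := by
  haveI : IsMonHom (M := Red.bc κ D) (N := Red.bc κ G) ((Over.pullback κ).map u) := DiagRep.isMonHom_bc_map κ u
  have sqk := PowEtCentralLib.isPullback_map_left κ u
  haveI : QuasiCompact ((Over.pullback κ).map u).left := MorphismProperty.of_isPullback sqk ‹_›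
  haveI : Mono ((Over.pullback κ).map u) := inferInstance
  haveI : LocallyOfFiniteType (Red.bc κ D).hom := inferInstanceAs (LocallyOfFiniteType (pullback.snd D.hom κ))
  haveI : LocallyOfFiniteType (Red.bc κ G).hom := inferInstanceAs (LocallyOfFiniteType (pullback.snd G.hom κ))
  haveI hcl : IsClosedImmersion ((Over.pullback κ).map u).left :=
    GrpHom.isClosedImmersion_of_mono (G := Red.bc κ D) (H := Red.bc κ G) ((Over.pullback κ).map u)
  let zk : Spec (CommRingCat.of A) ⟶ pullback G.hom κ := pullback.lift z a hz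
  have hzk : zk ≫ pullback.fst G.hom κ = z := pullback.lift_fst _ _ _
  let P := pullback ((Over.pullback κ).map u).left zk
  have sq : IsPullback (pullback.fst ((Over.pullback κ).map u).left zk ≫ pullback.fst D.hom κ)
      (pullback.snd ((Over.pullback κ).map u).left zk) u.left z := by
    rw [← hzk]
    exact ((IsPullback.of_hasPullback ((Over.pullback κ).map u).left zk).flip.paste_vert sqk.flip).flip
  let p := sq.lift x (Spec.map (CommRingCat.ofHom ψ)) hx
  haveI : Surjective (pullback.snd ((Over.pullback κ).map u).left zk) := ⟨fun t => by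
    obtain ⟨e⟩ : Nonempty (Spec (CommRingCat.of E)) := inferInstanceAs (Nonempty (PrimeSpectrum E))
    exact ⟨p e, Subsingleton.elim _ _⟩⟩
  haveI := isIso_of_isClosedImmersion_of_surjective (pullback.snd ((Over.pullback κ).map u).left zk)
  exact ⟨inv (pullback.snd ((Over.pullback κ).map u).left zk) ≫ pullback.fst _ zk ≫ pullback.fst D.hom κ, by
    rw [Category.assoc, IsIso.inv_comp_eq]; exact sq.w⟩

variable {S : Scheme.{u}} {O K : Type u} [CommRing O] [IsDomain O] [ValuationRing O] [Field K] [Algebra O K]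
  [IsFractionRing O K] (b : Spec (CommRingCat.of O) ⟶ S) {r : ℕ} {G : Over S} [GrpObj G] [IsSeparated G.hom]
  [QuasiCompact G.hom] [LocallyOfFiniteType G.hom] (u : Red.DS S (Fin r → ℤ) ⟶ G) [IsMonHom u] [Mono u]

theorem deg_eq_one (χ : Lat r →* Kˣ) (g : pA b (RingHom.id O) ⟶ G)
    (hg : rs b (algebraMap O K) (RingHom.comp_id _) ≫ g = pD b (algebraMap O K) ((Units.coeHom K).comp χ) ≫ u)
    (m : Lat r) : deg (O := O) χ m = 1 := by
  classical
  -- the translates
  let gR : pA b (cR (O := O) (r := r)) ⟶ G := rs b cR (RingHom.comp_id _) ≫ g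
  let pξ : pA b (cR (O := O) (r := r)) ⟶ G := pD b cR ξR ≫ u
  let z : ℕ → (pA b (cR (O := O) (r := r)) ⟶ G) := fun n => gR ^ n * pξ
  let cL : O →+* LL K r := (ρL (K := K)).comp cR
  let rL : pA b cL ⟶ pA b (cR (O := O) (r := r)) := rs b ρL rfl
  let ξL : Lat r →* LL K r := (ρL (K := K)).toMonoidHom.comp (ξR (O := O))
  let χL : Lat r →* LL K r := cKL.toMonoidHom.comp ((Units.coeHom K).comp χ)
  have hzL : ∀ n, rL ≫ z n = pD b cL (χL ^ n * ξL) ≫ u := fun n => by
    have h1 : rL ≫ gR = pD b cL χL ≫ u := by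
      rw [← rs_pD b cKL cKL_comp, Category.assoc, ← hg, ← Category.assoc, ← Category.assoc, rs_comp, rs_comp]
      congr 2
      exact cKL_comp.symm
    have h2 : rL ≫ pξ = pD b cL ξL ≫ u := by rw [← rs_pD b ρL rfl, Category.assoc]
    rw [MonObj.comp_mul, MonObj.comp_pow, h1, h2, ← MonObj.pow_comp, ← MonObj.mul_comp, pD_mul, pD_pow]
  -- an affine open hit by infinitely many translates
  obtain ⟨S₀, hS₀, hbS, -⟩ :=
    exists_isAffineOpen_mem_and_subset (X := S) (x := b (IsLocalRing.closedPoint O)) (U := ⊤) trivial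
  have hbS₀ : ∀ t, b t ∈ S₀ := fun t =>
    ((IsLocalRing.specializes_closedPoint t).map b.continuous).mem_open S₀.isOpen hbS
  let W : G.left.Opens := G.hom ⁻¹ᵁ S₀
  have hWc : IsCompact (W : Set G.left) := G.hom.isCompact_preimage hS₀.isCompact
  have hcov : ∀ x : W, ∃ V : G.left.Opens, IsAffineOpen V ∧ x.1 ∈ V ∧ V ≤ W := fun x => by
    obtain ⟨V, hV, hxV, hVW⟩ := exists_isAffineOpen_mem_and_subset (X := G.left) (x := x.1) (U := W) x.2
    exact ⟨V, hV, hxV, hVW⟩
  choose V hV hxV hVW using hcov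
  obtain ⟨J, hJ⟩ := hWc.elim_finite_subcover (fun x => (V x : Set G.left)) (fun x => (V x).isOpen)
    fun y hy => Set.mem_iUnion.2 ⟨⟨y, hy⟩, hxV ⟨y, hy⟩⟩
  let c₀ := IsLocalRing.closedPoint (RR O r)
  have hzW : ∀ n, (z n).left c₀ ∈ W := fun n => by
    show G.hom ((z n).left c₀) ∈ S₀
    rw [← Scheme.Hom.comp_apply, Over.w (z n)]
    exact hbS₀ _
  have hzJ : ∀ n, ∃ x : J, (z n).left c₀ ∈ V x.1 := fun n => by
    obtain ⟨x, hx, hxn⟩ := Set.mem_iUnion₂.1 (hJ (hzW n))
    exact ⟨⟨x, hx⟩, hxn⟩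
  choose j hj using hzJ
  obtain ⟨x₀, hx₀⟩ := Finite.exists_infinite_fiber j
  let V₀ := V x₀.1
  have hinf : (j ⁻¹' {x₀}).Infinite := Set.infinite_coe_iff.1 hx₀
  -- rings of functions
  have hrange : ∀ n ∈ j ⁻¹' {x₀}, Set.range (z n).left ⊆ Set.range (hV x₀.1).fromSpec := by
    rintro n (hn : j n = x₀) _ ⟨t, rfl⟩
    rw [IsAffineOpen.range_fromSpec]
    exact ((IsLocalRing.specializes_closedPoint t).map (z n).left.continuous).mem_open (V x₀.1).isOpen (hn ▸ hj n)
  have hψ : ∀ n ∈ j ⁻¹' {x₀}, ∃ ψ : Γ(G.left, V₀) →+* RR O r,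
      Spec.map (CommRingCat.ofHom ψ) ≫ (hV x₀.1).fromSpec = (z n).left := fun n hn => by
    refine ⟨(Spec.preimage (IsOpenImmersion.lift (hV x₀.1).fromSpec (z n).left (hrange n hn))).hom, ?_⟩
    rw [CommRingCat.ofHom_hom, Spec.map_preimage, IsOpenImmersion.lift_fac]
  choose ψ hψ using hψ
  obtain ⟨n₀, hn₀⟩ := hinf.nonempty
  let α : Γ(S, S₀) →+* Γ(G.left, V₀) := (G.hom.appLE S₀ V₀ (hVW x₀.1)).hom
  obtain ⟨β, hβ⟩ : ∃ β : Γ(S, S₀) →+* O, Spec.map (CommRingCat.ofHom β) ≫ hS₀.fromSpec = b := by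
    refine ⟨(Spec.preimage (IsOpenImmersion.lift hS₀.fromSpec b ?_)).hom, ?_⟩
    · rintro _ ⟨t, rfl⟩
      rw [IsAffineOpen.range_fromSpec]
      exact hbS₀ t
    · rw [CommRingCat.ofHom_hom, Spec.map_preimage, IsOpenImmersion.lift_fac]
  have hscalar : ∀ n hn, (ψ n hn).comp α = (cR (O := O) (r := r)).comp β := by
    intro n hn
    have e : Spec.map (CommRingCat.ofHom ((ψ n hn).comp α)) ≫ hS₀.fromSpec =
        Spec.map (CommRingCat.ofHom ((cR (O := O) (r := r)).comp β)) ≫ hS₀.fromSpec := by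
      rw [CommRingCat.ofHom_comp, CommRingCat.ofHom_comp, Spec.map_comp, Spec.map_comp, Category.assoc,
        Category.assoc, hβ, CommRingCat.ofHom_hom, IsAffineOpen.SpecMap_appLE_fromSpec G.hom hS₀ (hV x₀.1),
        ← Category.assoc, hψ n hn]
      exact Over.w (z n)
    exact congrArg CommRingCat.Hom.hom (Spec.map_injective (cancel_mono hS₀.fromSpec |>.1 e))
  -- the generic point
  let e₀ : pA b cL ⟶ G := pD b cL ξL ≫ u
  have hσz : ∀ n, rs b (σL χ n) (σL_comp χ n) ≫ e₀ = rL ≫ z n := fun n => by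
    rw [hzL, ← Category.assoc, rs_pD, σL_ξ]
  have hleft : ∀ n hn, Spec.map (CommRingCat.ofHom ((ρL (K := K)).comp (ψ n hn))) ≫ (hV x₀.1).fromSpec = (rL ≫ z n).left :=
    fun n hn => by
      rw [CommRingCat.ofHom_comp, Spec.map_comp, Category.assoc, hψ n hn]
      rfl
  obtain ⟨F₀, hF₀⟩ : ∃ F₀ : Γ(G.left, V₀) →+* LL K r, Spec.map (CommRingCat.ofHom F₀) ≫ (hV x₀.1).fromSpec = e₀.left := by
    refine ⟨(Spec.preimage (IsOpenImmersion.lift (hV x₀.1).fromSpec e₀.left ?_)).hom, ?_⟩
    · rintro _ ⟨t, rfl⟩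
      have h1 : e₀.left t = (rL ≫ z n₀).left t := by
        rw [← hσz n₀]
        show _ = e₀.left (Spec.map (CommRingCat.ofHom (σL χ n₀)) t)
        exact congrArg e₀.left (@Subsingleton.elim (Spec (CommRingCat.of (LL K r))) inferInstance _ _)
      refine Set.mem_of_eq_of_mem h1 ?_
      rw [← hleft n₀ hn₀]
      exact ⟨Spec.map (CommRingCat.ofHom ((ρL (K := K)).comp (ψ n₀ hn₀))) t, rfl⟩
    · rw [CommRingCat.ofHom_hom, Spec.map_preimage, IsOpenImmersion.lift_fac]
  have hψF : ∀ n hn, (ρL (K := K)).comp (ψ n hn) = (σL χ n).comp F₀ := fun n hn => by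
    have e : Spec.map (CommRingCat.ofHom ((ρL (K := K)).comp (ψ n hn))) ≫ (hV x₀.1).fromSpec =
        Spec.map (CommRingCat.ofHom ((σL χ n).comp F₀)) ≫ (hV x₀.1).fromSpec := by
      rw [hleft, CommRingCat.ofHom_comp (f := F₀), Spec.map_comp, Category.assoc, hF₀, ← hσz]
      rfl
    exact congrArg CommRingCat.Hom.hom (Spec.map_injective (cancel_mono (hV x₀.1).fromSpec |>.1 e))
  -- generators
  have hfin : α.FiniteType := G.hom.finiteType_appLE hS₀ (hV x₀.1) (hVW x₀.1)
  letI := α.toAlgebra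
  obtain ⟨T, hT⟩ := (RingHom.finiteType_algebraMap (A := Γ(S, S₀)) (B := Γ(G.left, V₀))).1 hfin
  have hfrac : ∀ f, ∃ P Q : MonoidAlgebra K (Lat r), Q ≠ 0 ∧ F₀ f * algebraMap _ (LL K r) Q = algebraMap _ (LL K r) P := fun f => by
    obtain ⟨⟨P, Q⟩, e⟩ := IsLocalization.surj (nonZeroDivisors (MonoidAlgebra K (Lat r))) (F₀ f)
    exact ⟨P, Q.1, nonZeroDivisors.coe_ne_zero Q, e⟩
  choose PP QQ hQQ hPQ using hfrac
  have hbad : (⋃ f ∈ T, (bad (O := O) χ (PP f) (QQ f) ∪ bad (O := O) χ (QQ f) (QQ f))).Finite :=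
    T.finite_toSet.biUnion fun f _ => (bad_finite χ _ _).union (bad_finite χ _ _)
  obtain ⟨n, hn, hgood⟩ := (hinf.diff hbad).nonempty
  simp only [Set.mem_iUnion, Set.mem_union, not_exists, not_or] at hgood
  let kl := FractionRing (MonoidAlgebra (IsLocalRing.ResidueField O) (Lat r))
  let A0 : Subfield kl := degZero (O := O) χ
  let ρ' : RR O r →+* kl := ρl
  have hconst : ∀ o : O, ρ' (cR o) ∈ A0 := ρl_cR_mem χ
  have hmem : ∀ f, ρ' (ψ n hn f) ∈ A0 := by
    intro f
    have hf : f ∈ Algebra.adjoin Γ(S, S₀) (T : Set Γ(G.left, V₀)) := by rw [hT]; trivial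
    induction hf using Algebra.adjoin_induction with
    | mem x hx =>
      refine mem_degZero_of_eq χ (hQQ x) ((hgood x hx).1) ((hgood x hx).2) _ ?_
      have h1 : ρL (ψ n hn x) = σL χ n (F₀ x) := DFunLike.congr_fun (hψF n hn) x
      rw [← σL_algebraMap, ← σL_algebraMap, ← hPQ x, map_mul]
      exact congrArg (· * _) h1
    | algebraMap a =>
      rw [show ψ n hn (algebraMap Γ(S, S₀) Γ(G.left, V₀) a) = cR (β a) from DFunLike.congr_fun (hscalar n hn) a]
      exact hconst _
    | add x y _ _ hx hy => rw [map_add, map_add]; exact add_mem hx hy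
    | mul x y _ _ hx hy => rw [map_mul, map_mul]; exact mul_mem hx hy
  -- descend to the field of degree zero
  let cl : O →+* kl := ρ'.comp cR
  let ψ₀ : Γ(G.left, V₀) →+* A0 := (ρ'.comp (ψ n hn)).codRestrict A0 hmem
  let cA : O →+* A0 := cl.codRestrict A0 hconst
  let zV : pA b cA ⟶ G := Over.homMk (Spec.map (CommRingCat.ofHom ψ₀) ≫ (hV x₀.1).fromSpec) (by
    rw [Category.assoc, ← IsAffineOpen.SpecMap_appLE_fromSpec G.hom hS₀ (hV x₀.1) (hVW x₀.1), ← Category.assoc,
      ← Spec.map_comp]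
    show Spec.map (CommRingCat.ofHom (ψ₀.comp α)) ≫ hS₀.fromSpec = Spec.map (CommRingCat.ofHom cA) ≫ b
    rw [show ψ₀.comp α = cA.comp β from RingHom.ext fun a => Subtype.ext
        (congrArg ρ' (DFunLike.congr_fun (hscalar n hn) a)),
      CommRingCat.ofHom_comp, Spec.map_comp, Category.assoc, hβ])
  let rA : pA b cl ⟶ pA b cA := rs b A0.subtype (RingHom.ext fun _ => rfl)
  let rl : pA b cl ⟶ pA b (cR (O := O) (r := r)) := rs b ρ' rfl
  have hzV : rA ≫ zV = rl ≫ z n := by
    refine Over.OverMorphism.ext ?_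
    show Spec.map _ ≫ Spec.map _ ≫ _ = Spec.map _ ≫ (z n).left
    rw [← hψ n hn, ← Category.assoc, ← Spec.map_comp, ← Category.assoc, ← Spec.map_comp]
    rfl
  let z₀ : pA b cA ⟶ G := ((rs b cA (RingHom.comp_id _) ≫ g) ^ n)⁻¹ * zV
  let ξl : Lat r →* kl := ρ'.toMonoidHom.comp ξR
  have hz₀ : rA ≫ z₀ = pD b cl ξl ≫ u := by
    rw [MonObj.comp_mul, GrpObj.comp_inv, MonObj.comp_pow, hzV, MonObj.comp_mul, MonObj.comp_pow,
      ← Category.assoc rl, ← Category.assoc rA, rs_comp, rs_comp, ← rs_pD b ρ' rfl, Category.assoc]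
    exact inv_mul_cancel_left _ _
  haveI : QuasiCompact u.left := by
    haveI := MultEq.isAffineHom_DS S (Fin r → ℤ)
    haveI : QuasiCompact (u.left ≫ G.hom) := by rw [Over.w u]; infer_instance
    exact QuasiCompact.of_comp u.left G.hom
  haveI : LocallyOfFinitePresentation (Red.DS S (Fin r → ℤ)).hom := MultEq.lfp_DS S (Fin r → ℤ)
  let κ : Spec (CommRingCat.of (IsLocalRing.ResidueField O)) ⟶ S :=
    Spec.map (CommRingCat.ofHom (IsLocalRing.residue O)) ≫ b
  have hker : ∀ o : O, IsLocalRing.residue O o = 0 → cA o = 0 := fun o ho => Subtype.ext (by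
    show ρl (cR (r := r) o) = 0
    rw [ρl_cR, ho, MonoidAlgebra.single_zero, map_zero])
  let ak : IsLocalRing.ResidueField O →+* A0 :=
    RingHom.liftOfSurjective (IsLocalRing.residue O) IsLocalRing.residue_surjective
      ⟨cA, fun o ho => hker o ho⟩
  have hak : ak.comp (IsLocalRing.residue O) = cA :=
    RingHom.liftOfRightInverse_comp _ _ _ _
  obtain ⟨q, hq⟩ := factor_closed_field κ u A0.subtype (Spec.map (CommRingCat.ofHom ak)) z₀.left (by
      rw [Over.w z₀, ← Category.assoc, ← Spec.map_comp, ← CommRingCat.ofHom_comp, hak]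
      rfl) (pD b cl ξl).left (congrArg CommaMorphism.left hz₀).symm
  let q' : pA b cA ⟶ Red.DS S (Fin r → ℤ) := Over.homMk q (by
    rw [← Over.w u, ← Category.assoc, hq]
    exact Over.w z₀)
  obtain ⟨ηq, hη⟩ := exists_pD b q'
  have hq' : rA ≫ q' = pD b cl ξl := by
    rw [← cancel_mono u, Category.assoc, show q' ≫ u = z₀ from Over.OverMorphism.ext hq, hz₀]
  rw [← hη, rs_pD] at hq'
  have h1 := DFunLike.congr_fun (pD_injective b hq') m
  have h2 : ξl m = algebraMap _ kl (MonoidAlgebra.single m (1 : IsLocalRing.ResidueField O)) := ρl_ξR m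
  refine deg_eq_one_of_mem χ ?_
  rw [← h2, ← h1]
  exact (ηq m).2

end Groth.Agent.MonoCI
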